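import Groth.Agent.Lib.VanFib13.Vanish
import Groth.Agent.Lib.CohFound.SecAffine
import Groth.Agent.Lib.CohFound.RelVan
import Groth.Agent.S0403

/-!
# Vanishing of higher direct images above the fibre dimension
-/

set_option autoImplicit false
set_option linter.style.haveILetI false
set_option backward.isDefEq.respectTransparency false
set_option backward.isDefEq.respectTransparency.types false

universe u

open CategoryTheory CategoryTheory.Limits Opposite TopologicalSpace AlgebraicGeometry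

noncomputable section

namespace Groth.Agent.VanFib13

open CohFound

variable {X Y : Scheme.{u}} (f : X ⟶ Y) [IsProper f]

/-- Over affine opens of small fibre dimension. -/
theorem subsingleton_hc_affine {W : Y.Opens} (hW : IsAffineOpen W) (d : ℕ)
    (hd : ∀ w ∈ W, topologicalKrullDim ↥(f ⁻¹' {w} : Set X) ≤ (d : WithBot ℕ∞))
    {M : X.Modules} (hM : Coh.IsQCoh M) {n : ℕ} (hn : d < n) :
    Subsingleton (Hc ((abF X).obj M) n (f ⁻¹ᵁ W)) := by
  let f₀ : (f ⁻¹ᵁ W : X.Opens).toScheme ⟶ Spec Γ(Y, W) := (f ∣_ W) ≫ hW.isoSpec.hom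
  haveI := subsingleton_of_fibreDim f₀ d (fun z => ?_) (M1.isQCoh_restrict hM (f ⁻¹ᵁ W).ι) hn
  · obtain ⟨e⟩ := nonempty_hc_abF_restrict (f ⁻¹ᵁ W).ι M n (⊤ : (f ⁻¹ᵁ W : X.Opens).toScheme.Opens)
    have h1 : Subsingleton (Hc ((abF X).obj M) n ((f ⁻¹ᵁ W).ι ''ᵁ ⊤)) := e.symm.injective.subsingleton
    rwa [Scheme.Opens.ι_image_top] at h1
  · let w : W.toScheme := hW.isoSpec.inv z
    have key : ∀ x : ↥(f₀ ⁻¹' {z} : Set _), (f ⁻¹ᵁ W).ι x.1 ∈ (f ⁻¹' {W.ι w} : Set X) := fun x => by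
      have hx : hW.isoSpec.hom ((f ∣_ W) x.1) = z := x.2
      have h2 : (f ∣_ W) x.1 = w := by
        simp only [w, ← hx, ← Scheme.Hom.comp_apply, Iso.hom_inv_id, Category.assoc]
        simp
      change f ((f ⁻¹ᵁ W).ι x.1) = W.ι w
      rw [← h2, ← Scheme.Hom.comp_apply, ← Scheme.Hom.comp_apply, morphismRestrict_ι]
    refine le_trans ?_ (hd (W.ι w) w.2)
    refine Topology.IsInducing.topologicalKrullDim_le
      (f := fun x => (⟨_, key x⟩ : ↥(f ⁻¹' {W.ι w} : Set X))) ?_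
    exact Topology.IsInducing.of_comp
      (((f ⁻¹ᵁ W).ι.continuous.comp continuous_subtype_val).subtype_mk _) continuous_subtype_val
      ((f ⁻¹ᵁ W).ι.isOpenEmbedding.isInducing.comp Topology.IsInducing.subtypeVal)

/-- An affine neighbourhood with small fibres. -/
theorem exists_affine_nhd (y : Y) (d : ℕ) (hd : topologicalKrullDim ↥(f.fiber y) ≤ (d : WithBot ℕ∞)) :
    ∃ V : Y.Opens, y ∈ V ∧ IsAffineOpen V ∧
      ∀ w ∈ V, topologicalKrullDim ↥(f ⁻¹' {w} : Set X) ≤ (d : WithBot ℕ∞) := by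
  obtain ⟨V, hV, hyV, hle⟩ := exists_isAffineOpen_mem_and_subset (X := Y) (x := y)
    (U := ⟨_, Groth.Agent.S0403.result f (d : WithBot ℕ∞)⟩) hd
  exact ⟨V, hyV, hV, fun w hw => (dim_fiber f w).symm.trans_le (hle hw)⟩

/-- Stalks of higher direct images vanish above the fibre dimension. -/
theorem isZero_stalk_rpushAb (y : Y) (d : ℕ) (hd : topologicalKrullDim ↥(f.fiber y) ≤ (d : WithBot ℕ∞))
    {M : X.Modules} (hM : Coh.IsQCoh M) {n : ℕ} (hn : d < n) :
    IsZero (TopCat.Presheaf.stalk ((Coh.RpushAb f n).obj (Coh.toAb M)).obj y) := by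
  obtain ⟨V, hyV, hV, hd'⟩ := exists_affine_nhd f y d hd
  let R := (CohTop.Rpush (f.base : sp X ⟶ sp Y) n).obj ((abF X).obj M)
  let P : TopCat.Presheaf AddCommGrpCat.{u} (sp Y) := R.obj
  change IsZero (TopCat.Presheaf.stalk P y)
  haveI : Subsingleton (ToType (TopCat.Presheaf.stalk P y)) := by
    refine subsingleton_of_forall_eq 0 fun a => ?_
    obtain ⟨U, hyU, s, rfl⟩ := TopCat.Presheaf.exists_germ_eq P a
    obtain ⟨W, hW, hyW, hle⟩ := exists_isAffineOpen_mem_and_subset (X := Y) (x := y) (U := U ⊓ V) ⟨hyU, hyV⟩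
    obtain ⟨e⟩ := nonempty_sections_rpushAb f hM n hW
    haveI := subsingleton_hc_affine f hW d (fun w hw => hd' w (hle hw).2) hM hn
    haveI : Subsingleton (P.obj (op W)) := e.injective.subsingleton
    have hWU : (W : Opens (sp Y)) ≤ U := fun z hz => (hle hz).1
    have hz : P.map (homOfLE hWU).op s = 0 := Subsingleton.elim _ _
    rw [← TopCat.Presheaf.germ_res_apply P (homOfLE hWU) y hyW s]
    exact (congrArg (P.germ W y hyW) hz).trans (map_zero _)
  exact AddCommGrpCat.isZero_of_subsingleton _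

/-- Vanishing near a point. -/
theorem exists_nhd_isZero_rpushAb (y : Y) (d : ℕ) (hd : topologicalKrullDim ↥(f.fiber y) ≤ (d : WithBot ℕ∞)) :
    ∃ V : Y.Opens, y ∈ V ∧ IsAffineOpen V ∧
      ∀ (M : (↑(f ⁻¹ᵁ V) : Scheme.{u}).Modules) (i : ℕ), Coh.IsQCoh M → d < i →
        IsZero ((Coh.RpushAb (f ∣_ V) i).obj (Coh.toAb M)) := by
  obtain ⟨V, hyV, hV, hd'⟩ := exists_affine_nhd f y d hd
  refine ⟨V, hyV, hV, fun M i hM hi => ?_⟩
  haveI : IsAffine V.toScheme := hV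
  refine isZero_rpushAb_of_cover (f ∣_ V) M hM (fun _ : PUnit.{u + 1} => (⊤ : V.toScheme.Opens))
    (fun _ => isAffineOpen_top _) (fun _ => ⟨PUnit.unit, trivial⟩) i fun _ => ?_
  obtain ⟨e⟩ := nonempty_hc_abF_restrict ((f ∣_ V) ⁻¹ᵁ (⊤ : V.toScheme.Opens)).ι M i ⊤
  haveI : Subsingleton (Hc ((abF (f ⁻¹ᵁ V : X.Opens).toScheme).obj M) i
      (((f ∣_ V) ⁻¹ᵁ (⊤ : V.toScheme.Opens)).ι ''ᵁ ⊤)) := by
    rw [Scheme.Opens.ι_image_top]
    refine subsingleton_hc_affine (f ∣_ V) (isAffineOpen_top V.toScheme) d (fun w _ => ?_) hM hi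
    refine le_trans ?_ (hd' (V.ι w) w.2)
    have key : ∀ x : ↥((f ∣_ V) ⁻¹' {w} : Set _), (f ⁻¹ᵁ V).ι x.1 ∈ (f ⁻¹' {V.ι w} : Set X) := fun x => by
      have hx : (f ∣_ V) x.1 = w := x.2
      change f ((f ⁻¹ᵁ V).ι x.1) = V.ι w
      refine Eq.trans ?_ (congrArg V.ι hx)
      rw [← Scheme.Hom.comp_apply, ← Scheme.Hom.comp_apply, morphismRestrict_ι]
    refine Topology.IsInducing.topologicalKrullDim_le
      (f := fun x => (⟨_, key x⟩ : ↥(f ⁻¹' {V.ι w} : Set X))) ?_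
    exact Topology.IsInducing.of_comp
      (((f ⁻¹ᵁ V).ι.continuous.comp continuous_subtype_val).subtype_mk _) continuous_subtype_val
      ((f ⁻¹ᵁ V).ι.isOpenEmbedding.isInducing.comp Topology.IsInducing.subtypeVal)
  exact e.injective.subsingleton

end Groth.Agent.VanFib13
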