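import Groth.Agent.Lib.VanFib13.Vanish
import Groth.Agent.Lib.CohFound.AmpleVan
import Groth.Agent.Lib.ModLimH13.Quot

/-!
# Finiteness of cohomology in the top degree
-/

set_option autoImplicit false
set_option linter.style.haveILetI false
set_option backward.isDefEq.respectTransparency false
set_option backward.isDefEq.respectTransparency.types false

universe u

open CategoryTheory CategoryTheory.Limits Opposite TopologicalSpace AlgebraicGeometry

noncomputable section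

namespace Groth.Agent.VanFib13

open CohFound M1

/-- A pushout of rings is generated by the images of its two factors. -/
theorem closure_eq_top_of_isPushout {R A B C : CommRingCat.{u}} {f : R ⟶ A} {g : R ⟶ B} {i : A ⟶ C}
    {j : B ⟶ C} (h : IsPushout f g i j) : Subring.closure (Set.range i ∪ Set.range j) = ⊤ := by
  let S : Subring C := Subring.closure (Set.range i ∪ Set.range j)
  let i' : A ⟶ CommRingCat.of S :=
    CommRingCat.ofHom (i.hom.codRestrict S fun a => Subring.subset_closure (Or.inl ⟨a, rfl⟩))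
  let j' : B ⟶ CommRingCat.of S :=
    CommRingCat.ofHom (j.hom.codRestrict S fun b => Subring.subset_closure (Or.inr ⟨b, rfl⟩))
  have w : f ≫ i' = g ≫ j' := CommRingCat.hom_ext (RingHom.ext fun r =>
    Subtype.ext (ConcreteCategory.congr_hom h.w r))
  have e : h.desc i' j' w ≫ CommRingCat.ofHom S.subtype = 𝟙 C := by
    refine h.hom_ext ?_ ?_
    · rw [h.inl_desc_assoc, Category.comp_id]; rfl
    · rw [h.inr_desc_assoc, Category.comp_id]; rfl
  refine eq_top_iff.2 fun c _ => ?_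
  have := ConcreteCategory.congr_hom e c
  have hh : (h.desc i' j' w c).1 = c := this
  rw [← hh]
  exact (h.desc i' j' w c).2

variable {X P : Scheme.{u}} {A R : CommRingCat.{u}} (a : X ⟶ P) (f₀ : X ⟶ Spec A)

/-- Functions on the preimage of an affine open are generated by those of the open and of `A`. -/
theorem generated {Z : Scheme.{u}} {k : X ⟶ Z} [IsClosedImmersion k] {q : Z ⟶ P} {z : Z ⟶ Spec A}
    {u : P ⟶ Spec R} {π : Spec A ⟶ Spec R} (hq : IsPullback q z u π) (ha : k ≫ q = a) (hf : k ≫ z = f₀)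
    {W : P.Opens} (hW : IsAffineOpen W) :
    Subring.closure (Set.range (a.app W) ∪
      Set.range (fun r : A => M1.ores (le_top : a ⁻¹ᵁ W ≤ ⊤) (gl f₀ r))) = ⊤ := by
  subst ha hf
  have hUY : q ⁻¹ᵁ W = q ⁻¹ᵁ W ⊓ z ⁻¹ᵁ ⊤ := by simp
  haveI : IsAffineHom q := MorphismProperty.of_isPullback hq.flip inferInstance
  have hp := (isIso_pushoutSection_iff hq (US := (⊤ : (Spec R).Opens)) (UT := (⊤ : (Spec A).Opens))
    (UX := W) le_top le_top hUY).1
    (isIso_pushoutSection_of_isAffineOpen hq le_top le_top hUY (isAffineOpen_top _) (isAffineOpen_top _) hW)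
  have h1 := closure_eq_top_of_isPushout hp
  refine eq_top_iff.2 fun c _ => ?_
  obtain ⟨b, rfl⟩ := k.app_surjective (q ⁻¹ᵁ W) (hW.preimage q) c
  have hle : Subring.closure (Set.range (q.appLE W (q ⁻¹ᵁ W) le_rfl) ∪
      Set.range (z.appLE ⊤ (q ⁻¹ᵁ W) le_top)) ≤
      (Subring.closure (Set.range ((k ≫ q).app W) ∪
        Set.range (fun r : A => M1.ores (le_top : (k ≫ q) ⁻¹ᵁ W ≤ ⊤) (gl (k ≫ z) r)))).comap
      (k.app (q ⁻¹ᵁ W)).hom := by
    refine Subring.closure_le.2 ?_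
    rintro _ (⟨x, rfl⟩ | ⟨t, rfl⟩)
    · refine Subring.subset_closure (Or.inl ⟨x, ?_⟩)
      rw [Scheme.Hom.appLE_eq_app]
      rfl
    · obtain ⟨r, rfl⟩ := (ConcreteCategory.bijective_of_isIso (Scheme.ΓSpecIso A).inv).2 t
      refine Subring.subset_closure (Or.inr ⟨r, ?_⟩)
      exact (ConcreteCategory.congr_hom (k.naturality (homOfLE (le_top : q ⁻¹ᵁ W ≤ ⊤)).op) _).symm
  exact hle (h1 ▸ Subring.mem_top b)

/-- Surjections of quasi-coherent modules stay surjective in a degree above which cohomology vanishes. -/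
theorem mp_surjective_of_epi {S : Scheme.{u}} {d : ℕ}
    (hvan : ∀ M : S.Modules, Coh.IsQCoh M → Subsingleton (Hc ((abF S).obj M) (d + 1) ⊤))
    {K Q : S.Modules} (hK : Coh.IsQCoh K) (hQ : Coh.IsQCoh Q) (e : K ⟶ Q) [Epi e] :
    Function.Surjective (mp ((abF S).map e) d (⊤ : S.Opens)) := by
  have hS : (ShortComplex.mk (kernel.ι e) e (kernel.condition e)).ShortExact :=
    { exact := ShortComplex.exact_kernel _ }
  haveI := hvan _ (M1.isQCoh_kernel hK hQ e)
  intro x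
  exact exact₃ (shortExact_abF hS) d ⊤ x
    (Subsingleton.elim (α := Hc ((abF S).obj (kernel e)) (d + 1) ⊤) _ _)

variable [IsAffineHom a] (M : X.Modules)

/-- Multiplication by an element of `A` on `a_* M`. -/
def mulP (r : A) : (Scheme.Modules.pushforward a).obj M ⟶ (Scheme.Modules.pushforward a).obj M :=
  (Scheme.Modules.pushforward a).map (mulHom M (gl f₀ r))

variable [CompactSpace P] [QuasiSeparatedSpace P] [IsLocallyNoetherian P] (d : ℕ)

set_option maxHeartbeats 1600000 in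
/-- Top degree finiteness. -/
theorem hFin_top_of_affine (hM : Coh.IsQCoh M) (hM' : CohB1.IsFT M)
    (hgen : ∀ W : P.Opens, IsAffineOpen W → Subring.closure (Set.range (a.app W) ∪
      Set.range (fun r : A => M1.ores (le_top : a ⁻¹ᵁ W ≤ ⊤) (gl f₀ r))) = ⊤)
    (ψ : R →+* Γ(P, ⊤)) (hψ : ∀ r : R, ∃ b : A, a.appTop (ψ r) = gl f₀ b)
    (hfin : ∀ N : P.Modules, Coh.IsQCoh N → CohB1.IsFT N → HFin ψ N d ⊤)
    (hvan : ∀ N : P.Modules, Coh.IsQCoh N → Subsingleton (Hc ((abF P).obj N) (d + 1) ⊤)) :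
    HFin (Coh.toGlobal f₀) M d ⊤ := by
  classical
  let F := (Scheme.Modules.pushforward a).obj M
  have hF : Coh.IsQCoh F := M1.isQCoh_push a hM
  letI := hMod (Coh.toGlobal f₀) M d (⊤ : X.Opens)
  obtain ⟨ε, hε⟩ := exists_hc_push_commute (a.base : sp X ⟶ sp P)
    (B := {V : Opens (sp P) | IsAffineOpen (V : P.Opens)}) P.isBasis_affineOpens d ((abF X).obj M)
    (pushAcyclic_isAffineHom a M hM d) (⊤ : P.Opens)
  let T : Hc ((abF P).obj F) d ⊤ ≃+ Hc ((abF X).obj M) d ⊤ := (mpEquiv (abFPushIso a M) d ⊤).trans ε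
  have hTR : ∀ (c : Γ(P, ⊤)) x, T (gMul F c d ⊤ x) = gMul M (a.appTop c) d ⊤ (T x) := fun c x =>
    trans_commute (abFPushIso a M) d ⊤ ε _ _ _ (abFPushIso_gEnd a M c) (hε (gEnd M (a.appTop c))) x
  have hTA : ∀ (r : A) x, T (mp ((abF P).map (mulP a f₀ M r)) d ⊤ x) = gMul M (gl f₀ r) d ⊤ (T x) :=
    fun r x => trans_commute (abFPushIso a M) d ⊤ ε _ ((CohTop.push (a.base : sp X ⟶ sp P)).map (gEnd M (gl f₀ r)))
      _ (by apply CategoryTheory.Sheaf.hom_ext; exact NatTrans.ext (funext fun V => rfl))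
      (hε (gEnd M (gl f₀ r))) x
  -- finitely many generating sections
  obtain ⟨Vs, -, hVs⟩ := ModLimH13.exists_finset_affine_cover (⊤ : P.Opens) isCompact_univ
  have hfinM : ∀ W : P.affineOpens, ∃ s : Finset Γ(M, a ⁻¹ᵁ W.1),
      Submodule.span Γ(X, a ⁻¹ᵁ W.1) (s : Set Γ(M, a ⁻¹ᵁ W.1)) = ⊤ := fun W =>
    (M1.finite_sections hM hM' (W.2.preimage a)).fg_top
  choose g hg using hfinM
  obtain ⟨q₀, hq₀, hq₀', hq₀m⟩ := ModLimH13.exists_sub_through (F := F) hF (Vs.sigma g)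
    (fun i => i.1) (fun i => i.2)
  letI := hMod ψ q₀.P d (⊤ : P.Opens)
  haveI : Module.Finite R (Hc ((abF P).obj q₀.P) d (⊤ : P.Opens)) := hfin _ hq₀ hq₀'
  obtain ⟨tN, htN⟩ := (Module.Finite.fg_top : (⊤ : Submodule R (Hc ((abF P).obj q₀.P) d (⊤ : P.Opens))).FG)
  let φ₀ : Hc ((abF P).obj q₀.P) d (⊤ : P.Opens) → Hc ((abF X).obj M) d ⊤ :=
    fun η => T (mp ((abF P).map q₀.i) d ⊤ η)
  let G : Submodule A (Hc ((abF X).obj M) d (⊤ : X.Opens)) := Submodule.span A (↑(tN.image φ₀) : Set _)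
  let Good : Sub F → Prop := fun p => Coh.IsQCoh p.P ∧ CohB1.IsFT p.P ∧
    ∀ η, T (mp ((abF P).map p.i) d ⊤ η) ∈ G
  have good_im : ∀ (K : P.Modules) (χ : K ⟶ F), Coh.IsQCoh K → CohB1.IsFT K →
      (∀ η, T (mp ((abF P).map χ) d ⊤ η) ∈ G) → Good (Sub.im χ) := by
    intro K χ hK hK' hχ
    refine ⟨Sub.isQCoh_im χ hK hF, Sub.isFT_im χ hK', fun η => ?_⟩
    haveI := Sub.epi_toIm χ
    obtain ⟨η', rfl⟩ := mp_surjective_of_epi hvan hK (Sub.isQCoh_im χ hK hF)
      (kernel.lift (cokernel.π χ) χ (cokernel.condition χ)) η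
    rw [← mp_comp, ← Functor.map_comp]
    have e : kernel.lift (cokernel.π χ) χ (cokernel.condition χ) ≫ (Sub.im χ).i = χ := kernel.lift_ι _ _ _
    rw [e]
    exact hχ η'
  have good₀ : Good q₀ := ⟨hq₀, hq₀', fun η => by
    have hη : η ∈ Submodule.span R (tN : Set (Hc ((abF P).obj q₀.P) d (⊤ : P.Opens))) := htN ▸ Submodule.mem_top
    induction hη using Submodule.span_induction with
    | mem x hx => exact Submodule.subset_span (Finset.mem_image_of_mem φ₀ hx)
    | zero => rw [map_zero, map_zero]; exact G.zero_mem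
    | add x y _ _ hx hy => rw [map_add, map_add]; exact G.add_mem hx hy
    | smul r x _ hx =>
      obtain ⟨b, hb⟩ := hψ r
      have e : T (mp ((abF P).map q₀.i) d ⊤ (gMul q₀.P (ψ r) d ⊤ x)) =
          gMul M (gl f₀ b) d ⊤ (T (mp ((abF P).map q₀.i) d ⊤ x)) := by
        rw [equivariant_mp q₀.i d ⊤ (ψ r) x, hTR, hb]
      exact e ▸ G.smul_mem b hx⟩
  have good_sup : ∀ p q : Sub F, Good p → Good q →
      ∃ r : Sub F, Good r ∧ (∀ V s, p.mem V s → r.mem V s) ∧ ∀ V s, q.mem V s → r.mem V s := by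
    intro p q hp hq
    refine ⟨Sub.im (biprod.desc p.i q.i), good_im _ _ (M1.isQCoh_biprod hp.1 hq.1) ?_ fun η => ?_, ?_, ?_⟩
    · exact (M1.isCoh_biprod ⟨hp.1, hp.2.1⟩ ⟨hq.1, hq.2.1⟩).2
    · have hη : η = mp ((abF P).map (biprod.fst ≫ biprod.inl + biprod.snd ≫ biprod.inr :
          p.P ⊞ q.P ⟶ p.P ⊞ q.P)) d ⊤ η := by
        rw [biprod.total, CategoryTheory.Functor.map_id, mp_id]
      rw [hη, ← mp_comp, ← Functor.map_comp, Preadditive.add_comp, Functor.map_add, mp_add, map_add,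
        Category.assoc, Category.assoc, biprod.inl_desc, biprod.inr_desc, Functor.map_comp, Functor.map_comp,
        mp_comp, mp_comp]
      exact G.add_mem (hp.2.2 _) (hq.2.2 _)
    · rintro V s ⟨b, rfl⟩
      have h := Sub.im_mem_app (biprod.desc p.i q.i) V ((biprod.inl : p.P ⟶ p.P ⊞ q.P).app V b)
      rwa [← comp_app_apply, biprod.inl_desc] at h
    · rintro V s ⟨b, rfl⟩
      have h := Sub.im_mem_app (biprod.desc p.i q.i) V ((biprod.inr : q.P ⟶ p.P ⊞ q.P).app V b)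
      rwa [← comp_app_apply, biprod.inr_desc] at h
  have good_mul : ∀ (r : A) (p : Sub F), Good p → Good (Sub.im (p.i ≫ mulP a f₀ M r)) := by
    intro r p hp
    refine good_im _ _ hp.1 hp.2.1 fun η => ?_
    rw [Functor.map_comp, mp_comp, hTA]
    exact G.smul_mem r (hp.2.2 η)
  -- every section lies in a good submodule
  have hsec : ∀ W ∈ Vs, ∀ t : Γ(F, (W : P.affineOpens).1), ∃ p : Sub F, Good p ∧ p.mem W.1 t := by
    intro W hW
    have hsmul : ∀ c : Γ(X, a ⁻¹ᵁ W.1), ∀ t : Γ(M, a ⁻¹ᵁ W.1),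
        (∃ p : Sub F, Good p ∧ p.mem W.1 t) → ∃ p : Sub F, Good p ∧ p.mem W.1 (c • t : Γ(M, a ⁻¹ᵁ W.1)) := by
      intro c
      have hc : c ∈ Subring.closure (Set.range (a.app W.1) ∪
          Set.range (fun r : A => M1.ores (le_top : a ⁻¹ᵁ W.1 ≤ ⊤) (gl f₀ r))) :=
        (hgen W.1 W.2).symm ▸ Subring.mem_top c
      induction hc using Subring.closure_induction with
      | mem c hc =>
        rintro t ⟨p, hp, hpt⟩
        rcases hc with ⟨x, rfl⟩ | ⟨r, rfl⟩
        · exact ⟨p, hp, p.mem_smul x hpt⟩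
        · obtain ⟨b, rfl⟩ := hpt
          exact ⟨_, good_mul r p hp, Sub.im_mem_app (p.i ≫ mulP a f₀ M r) W.1 b⟩
      | zero =>
        rintro t -
        rw [zero_smul]
        exact ⟨q₀, good₀, q₀.mem_zero W.1⟩
      | one => intro t ht; rwa [one_smul]
      | add c c' _ _ hc hc' =>
        intro t ht
        obtain ⟨p, hp, hpm⟩ := hc t ht
        obtain ⟨q, hq, hqm⟩ := hc' t ht
        obtain ⟨r, hr, hpr, hqr⟩ := good_sup p q hp hq
        rw [add_smul]
        exact ⟨r, hr, r.mem_add (hpr _ _ hpm) (hqr _ _ hqm)⟩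
      | neg c _ hc =>
        intro t ht
        obtain ⟨p, hp, hpm⟩ := hc t ht
        obtain ⟨b, hb⟩ := hpm
        exact ⟨p, hp, -b, (map_neg _ b).trans ((congrArg Neg.neg hb).trans (neg_smul c t).symm)⟩
      | mul c c' _ _ hc hc' =>
        intro t ht
        rw [mul_smul]
        exact hc _ (hc' t ht)
    suffices h : ∀ t : Γ(M, a ⁻¹ᵁ W.1), ∃ p : Sub F, Good p ∧ p.mem W.1 t from h
    intro t
    have ht : t ∈ Submodule.span Γ(X, a ⁻¹ᵁ W.1) (g W : Set Γ(M, a ⁻¹ᵁ W.1)) :=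
      (hg W).symm ▸ Submodule.mem_top
    induction ht using Submodule.span_induction with
    | mem x hx => exact ⟨q₀, good₀, hq₀m ⟨W, x⟩ (Finset.mem_sigma.2 ⟨hW, hx⟩)⟩
    | zero => exact ⟨q₀, good₀, q₀.mem_zero W.1⟩
    | add x y _ _ hx hy =>
      obtain ⟨p, hp, hpm⟩ := hx
      obtain ⟨q, hq, hqm⟩ := hy
      obtain ⟨r, hr, hpr, hqr⟩ := good_sup p q hp hq
      exact ⟨r, hr, r.mem_add (hpr _ _ hpm) (hqr _ _ hqm)⟩
    | smul c x _ hx => exact hsmul c x hx
  -- conclusion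
  have hall : ∀ ξ, ξ ∈ G := by
    intro ξ
    obtain ⟨q, η, hq, hq', hη⟩ := exists_sub_hc hF d (T.symm ξ)
    haveI : Coh.IsQCoh q.P := hq
    have hfinq : ∀ W : P.affineOpens, ∃ s : Finset Γ(q.P, W.1),
        Submodule.span Γ(P, W.1) (s : Set Γ(q.P, W.1)) = ⊤ := fun W =>
      (M1.finite_sections hq hq' W.2).fg_top
    choose s hs using hfinq
    have hmany : ∀ S : Finset (Σ W : P.affineOpens, Γ(q.P, W.1)), (∀ i ∈ S, i.1 ∈ Vs) →
        ∃ p : Sub F, Good p ∧ ∀ i ∈ S, p.mem i.1.1 (q.i.app i.1.1 i.2) := by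
      intro S
      induction S using Finset.induction with
      | empty => exact fun _ => ⟨q₀, good₀, fun i hi => absurd hi (Finset.notMem_empty i)⟩
      | insert i S _ ih =>
        intro hS
        obtain ⟨p, hp, hpm⟩ := ih fun j hj => hS j (Finset.mem_insert_of_mem hj)
        obtain ⟨p', hp', hp'm⟩ := hsec i.1 (hS i (Finset.mem_insert_self i S)) (q.i.app i.1.1 i.2)
        obtain ⟨r, hr, hpr, hp'r⟩ := good_sup p p' hp hp'
        refine ⟨r, hr, fun j hj => ?_⟩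
        rcases Finset.mem_insert.1 hj with rfl | hj
        · exact hp'r _ _ hp'm
        · exact hpr _ _ (hpm j hj)
    obtain ⟨p, hp, hpm⟩ := hmany (Vs.sigma s) fun i hi => (Finset.mem_sigma.1 hi).1
    have h0 : q.i ≫ cokernel.π p.i = 0 := by
      refine ModLimH13.hom_eq_zero_of_generators _ fun x => ?_
      obtain ⟨W, hW, hxW⟩ := hVs x trivial
      refine ⟨W.1, (s W : Set _), hxW, W.2, hs W, fun t ht => ?_⟩
      exact (comp_app_apply _ _ W.1 t).trans ((p.mem_iff_cokernel W.1 _).1 (hpm ⟨W, t⟩ (Finset.mem_sigma.2 ⟨hW, ht⟩)))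
    let c := Abelian.monoLift p.i q.i h0
    have hc : c ≫ p.i = q.i := Abelian.monoLift_comp _ _ _
    have : ξ = T (mp ((abF P).map p.i) d ⊤ (mp ((abF P).map c) d ⊤ η)) := by
      rw [← mp_comp, ← Functor.map_comp, hc, hη, AddEquiv.apply_symm_apply]
    rw [this]
    exact hp.2.2 _
  exact (⟨⟨tN.image φ₀, eq_top_iff.2 fun ξ _ => hall ξ⟩⟩ : Module.Finite A (Hc ((abF X).obj M) d (⊤ : X.Opens)))

omit [CompactSpace P] [QuasiSeparatedSpace P] [IsLocallyNoetherian P] in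
/-- Cohomology in the degree of the fibre dimension is finite. -/
theorem hFin_top {Y : Scheme.{u}} {B : CommRingCat.{u}} (g : Y ⟶ Spec B) [IsProper g] (d : ℕ)
    (hd : ∀ y, topologicalKrullDim ↥(g ⁻¹' {y} : Set Y) ≤ (d : WithBot ℕ∞))
    (N : Y.Modules) (hN : Coh.IsQCoh N) (hN' : CohB1.IsFT N) : HFin (Coh.toGlobal g) N d ⊤ := by
  obtain ⟨R', hR, π, Q, u, Z, k, q, z, hu, hud, hk, hqa, hkz, hq⟩ := exists_model g d hd
  haveI := hR
  haveI := hu
  haveI := hk
  haveI := hqa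
  haveI := isNoetherian_of_isProper (A := R') u
  refine hFin_top_of_affine (k ≫ q) g N d hN hN' (fun W hW => generated _ g hq rfl hkz hW)
    (Coh.toGlobal (A := R') u) (fun r => ⟨(Scheme.ΓSpecIso B).hom (π.appTop ((Scheme.ΓSpecIso R').inv r)), ?_⟩)
    (fun M hM hM' => hFin_proper (A := R') u M ⟨hM, hM'⟩ d)
    (fun M hM => subsingleton_of_noetherian (A := R') u d hud hM (Nat.lt_succ_self d))
  change (k ≫ q).appTop (u.appTop ((Scheme.ΓSpecIso R').inv r)) =
    g.appTop ((Scheme.ΓSpecIso B).inv ((Scheme.ΓSpecIso B).hom (π.appTop ((Scheme.ΓSpecIso R').inv r))))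
  have e : (k ≫ q) ≫ u = g ≫ π := by rw [Category.assoc, hq.w, ← Category.assoc, hkz]
  rw [← ConcreteCategory.comp_apply (Scheme.ΓSpecIso B).hom (Scheme.ΓSpecIso B).inv, Iso.hom_inv_id]
  exact ConcreteCategory.congr_hom (congrArg Scheme.Hom.appTop e) ((Scheme.ΓSpecIso R').inv r)

end Groth.Agent.VanFib13
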