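import Groth.Agent.Lib.VanFib13.Global
import Groth.Agent.Lib.ConsH13.Approx
import Groth.Agent.Lib.LimH13.FibDimDescend
import Groth.Agent.Lib.LimH13.FibDimStage
import Groth.Agent.S2074
import Groth.Agent.S2079
import Groth.Agent.S9216

/-!
# Vanishing of cohomology above the fibre dimension
-/

set_option autoImplicit false
set_option linter.style.haveILetI false
set_option backward.isDefEq.respectTransparency false
set_option backward.isDefEq.respectTransparency.types false

universe u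

open CategoryTheory CategoryTheory.Limits Opposite TopologicalSpace AlgebraicGeometry

noncomputable section

namespace Groth.Agent.VanFib13

open CohFound

theorem dim_fiber {X S : Scheme.{u}} (g : X ⟶ S) (s : S) :
    topologicalKrullDim ↥(g.fiber s) = topologicalKrullDim ↥(g ⁻¹' {s} : Set X) :=
  IsHomeomorph.topologicalKrullDim_eq _ (g.fiberHomeo s).isHomeomorph

/-- The noetherian case. -/
theorem subsingleton_of_noetherian {A : Type u} [CommRing A] [IsNoetherianRing A] {X : Scheme.{u}}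
    (f₀ : X ⟶ Spec (CommRingCat.of A)) [IsProper f₀] (d : ℕ)
    (hd : ∀ y, topologicalKrullDim ↥(f₀ ⁻¹' {y} : Set X) ≤ (d : WithBot ℕ∞))
    {M : X.Modules} (hM : Coh.IsQCoh M) {n : ℕ} (hn : d < n) :
    Subsingleton (Hc ((abF X).obj M) n (⊤ : X.Opens)) := by
  haveI := isNoetherian_of_isProper f₀
  refine subsingleton_of_forall_eq 0 fun ξ => ?_
  obtain ⟨q, η, hq, hq', rfl⟩ := exists_sub_hc hM n ξ
  letI := hMod (Coh.toGlobal f₀) q.P n (⊤ : X.Opens)
  suffices h : η = 0 by rw [h, map_zero]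
  have hI : LinearMap.ker (LinearMap.toSpanSingleton A (Hc ((abF X).obj q.P) n (⊤ : X.Opens)) η) = ⊤ := by
    by_contra hne
    obtain ⟨m, hm, hle⟩ := Ideal.exists_le_maximal _ hne
    obtain ⟨a, ha, h0⟩ := tors_above_fibre_dim (f₀ := f₀) (y := ⟨m, hm.isPrime⟩) d (hd _) q.P ⟨hq, hq'⟩ n hn η
    exact ha (hle (show LinearMap.toSpanSingleton A _ η a = 0 from h0))
  have h1 : (1 : A) ∈ LinearMap.ker (LinearMap.toSpanSingleton A (Hc ((abF X).obj q.P) n (⊤ : X.Opens)) η) :=
    hI ▸ Submodule.mem_top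
  simpa using h1

/-- A proper morphism of finite presentation with small fibres over a limit comes from a stage. -/
theorem exists_stage_model {I : Type u} [SmallCategory I] [IsCofiltered I] (D : I ⥤ Scheme.{u}) (c : Cone D)
    (hc : IsLimit c) [∀ (i j : I) (a : i ⟶ j), IsAffineHom (D.map a)] [∀ i, CompactSpace (D.obj i)]
    [∀ i, QuasiSeparatedSpace (D.obj i)] {Z : Scheme.{u}} (z : Z ⟶ c.pt) [IsProper z]
    [LocallyOfFinitePresentation z] (d : ℕ)
    (hd : ∀ y, topologicalKrullDim ↥(z ⁻¹' {y} : Set Z) ≤ (d : WithBot ℕ∞)) :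
    ∃ (i : I) (P : Scheme.{u}) (u : P ⟶ D.obj i) (q : Z ⟶ P), IsProper u ∧
      (∀ y, topologicalKrullDim ↥(u ⁻¹' {y} : Set P) ≤ (d : WithBot ℕ∞)) ∧ IsPullback q z u (c.π.app i) := by
  haveI : ∀ i, IsAffineHom (c.π.app i) := fun i => isAffineHom_π_app _ c hc i
  haveI : CompactSpace c.pt :=
    QuasiCompact.compactSpace_of_compactSpace (c.π.app (IsCofiltered.nonempty (C := I)).some)
  haveI : QuasiSeparatedSpace c.pt :=
    quasiSeparatedSpace_of_quasiSeparated (c.π.app (IsCofiltered.nonempty (C := I)).some)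
  haveI : CompactSpace Z := QuasiCompact.compactSpace_of_compactSpace z
  haveI : QuasiSeparatedSpace Z := quasiSeparatedSpace_of_quasiSeparated z
  obtain ⟨i, P₀, p, q, hp, hPc, hPq, hP⟩ := LimH13.hasModel_of_finitePresentation hc z
  haveI := hp
  haveI := hPc
  haveI := hPq
  obtain ⟨i', φ, Xi, Yi, fi, gi, pY, pX, hY', hX', hfi⟩ :=
    Groth.Agent.S2074.result D c hc i p (𝟙 (D.obj i)) z (𝟙 c.pt) (c.π.app i) q
      (IsPullback.of_vert_isIso ⟨by simp⟩) hP
  haveI := hfi
  haveI : IsIso gi := hY'.isIso_snd_of_isIso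
  let g₁ : c.pt ⟶ Yi := c.π.app i' ≫ inv gi
  have hg₁ : g₁ ≫ pY = c.π.app i := by
    have h := hY'.w
    rw [Category.comp_id] at h
    rw [h]
    simp [g₁]
  have hw : q ≫ p = (z ≫ g₁) ≫ pY := by rw [Category.assoc, hg₁]; exact hP.w
  let k : Z ⟶ Xi := hX'.lift q (z ≫ g₁) hw
  have hk : IsPullback k z fi g₁ := by
    refine IsPullback.of_right ?_ (hX'.lift_snd _ _ hw) hX'
    rw [hX'.lift_fst, hg₁]
    exact hP
  let u₁ : Xi ⟶ D.obj i' := fi ≫ gi
  have hk₁ : IsPullback k z u₁ (c.π.app i') :=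
    hk.of_iso (Iso.refl _) (Iso.refl _) (Iso.refl _) (asIso gi) (by simp) (by simp) (by simp [u₁]) (by simp [g₁])
  haveI : CompactSpace Xi := QuasiCompact.compactSpace_of_compactSpace u₁
  let F := Over.forget i'
  let E : Over i' ⥤ Scheme.{u} := F ⋙ D
  let t : E ⟶ (Functor.const (Over i')).obj (D.obj i') :=
    { app := fun k => D.map k.hom
      naturality := fun k l a => by
        change D.map a.left ≫ D.map l.hom = D.map k.hom ≫ 𝟙 _
        rw [← D.map_comp, Over.w, Category.comp_id] }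
  haveI : ∀ k, IsAffineHom (t.app k) := fun k => inferInstanceAs (IsAffineHom (D.map k.hom))
  obtain ⟨l, hl⟩ := LimH13.exists_fibreDimAt_le_descend u₁ t (e := c.whisker F) (q := c.π.app i')
    ((Functor.Initial.isLimitWhiskerEquiv F c).symm hc) (fun k => c.w k.hom) hk₁ d
    (fun x => (LimH13.forall_dim_fiber_le_iff z _).1 (fun s => (dim_fiber z s).trans_le (hd s)) x)
  obtain ⟨q', -, hq'⟩ := LimH13.isPullback_map_stage l.hom hk₁
  exact ⟨l.left, _, pullback.snd u₁ (D.map l.hom), q', MorphismProperty.pullback_snd _ _ inferInstance,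
    fun y => (dim_fiber _ y).symm.trans_le
      ((LimH13.forall_dim_fiber_le_iff (pullback.snd u₁ (D.map l.hom)) _).2 hl y), hq'⟩

/-- A proper scheme with small fibres is closed in the base change of one over a noetherian ring. -/
theorem exists_model {A : CommRingCat.{u}} {X : Scheme.{u}} (f₀ : X ⟶ Spec A) [IsProper f₀] (d : ℕ)
    (hd : ∀ y, topologicalKrullDim ↥(f₀ ⁻¹' {y} : Set X) ≤ (d : WithBot ℕ∞)) :
    ∃ (R : CommRingCat.{u}) (_ : IsNoetherianRing R) (π : Spec A ⟶ Spec R) (P : Scheme.{u}) (u : P ⟶ Spec R)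
      (Z : Scheme.{u}) (k : X ⟶ Z) (q : Z ⟶ P) (z : Z ⟶ Spec A),
      IsProper u ∧ (∀ y, topologicalKrullDim ↥(u ⁻¹' {y} : Set P) ≤ (d : WithBot ℕ∞)) ∧
        IsClosedImmersion k ∧ IsAffineHom q ∧ k ≫ z = f₀ ∧ IsPullback q z u π := by
  obtain ⟨I, _, _, D, c, -, e, -, hci⟩ := Groth.Agent.S2079.result f₀
  obtain ⟨i⟩ := IsCofiltered.nonempty (C := I)
  obtain ⟨h₁, h₂, h₃⟩ := hci i
  let ι : X ⟶ (D.obj i).left := e.inv.left ≫ (c.π.app i).left
  have hι : ι ≫ (D.obj i).hom = f₀ := by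
    simp only [ι, Category.assoc, Over.w]
    exact Over.w e.inv
  haveI : IsClosedImmersion ι := by
    haveI : IsIso e.inv.left := inferInstanceAs (IsIso ((Over.forget _).map e.inv))
    infer_instance
  obtain ⟨Z, ι', k, hι'c, hι'p, hk, hZ⟩ := Groth.Agent.S9216.result (D.obj i).hom d ι
    (fun s => by rw [hι]; exact (dim_fiber f₀ s).trans_le (hd s))
  let z : Z ⟶ (ConsH13.approxCone A).pt := ι' ≫ (D.obj i).hom
  haveI : IsProper z := inferInstanceAs (IsProper (ι' ≫ (D.obj i).hom))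
  haveI : LocallyOfFinitePresentation z :=
    inferInstanceAs (LocallyOfFinitePresentation (ι' ≫ (D.obj i).hom))
  haveI : IsClosedImmersion k := by
    haveI : IsClosedImmersion (k ≫ ι') := by rw [hk]; infer_instance
    exact IsClosedImmersion.of_comp k ι'
  haveI : ∀ (a b : (ConsH13.FGSub A)ᵒᵖ) (φ : a ⟶ b), IsAffineHom ((ConsH13.approxDiagram A).map φ) :=
    fun a b φ => inferInstance
  obtain ⟨j, P, u, q, hu, hud, hq⟩ := exists_stage_model (ConsH13.approxDiagram A) (ConsH13.approxCone A)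
    (ConsH13.isLimitApproxCone A) z d (fun s => (dim_fiber _ s).symm.trans_le (hZ s))
  haveI : IsAffineHom ((ConsH13.approxCone A).π.app j) := isAffineHom_π_app _ _ (ConsH13.isLimitApproxCone A) j
  haveI : IsAffineHom q := MorphismProperty.of_isPullback hq.flip inferInstance
  exact ⟨CommRingCat.of ((ConsH13.subFunctor A).obj j.unop), inferInstance, (ConsH13.approxCone A).π.app j, P, u, Z, k, q,
    z, hu, hud, inferInstance, inferInstance, by simp only [z, ← Category.assoc, hk]; exact hι, hq⟩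

/-- Cohomology of quasi-coherent modules vanishes above the fibre dimension. -/
theorem subsingleton_of_fibreDim {A : CommRingCat.{u}} {X : Scheme.{u}} (f₀ : X ⟶ Spec A) [IsProper f₀] (d : ℕ)
    (hd : ∀ y, topologicalKrullDim ↥(f₀ ⁻¹' {y} : Set X) ≤ (d : WithBot ℕ∞))
    {M : X.Modules} (hM : Coh.IsQCoh M) {n : ℕ} (hn : d < n) :
    Subsingleton (Hc ((abF X).obj M) n (⊤ : X.Opens)) := by
  obtain ⟨R, _, π, P, u, Z, k, q, z, hu, hud, hk, hqa, -, -⟩ := exists_model f₀ d hd
  haveI : M.IsQuasicoherent := hM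
  obtain ⟨eH⟩ := nonempty_hc_push_isAffineHom (k ≫ q) M n (⊤ : P.Opens)
  haveI := subsingleton_of_noetherian u d hud (M := (Scheme.Modules.pushforward (k ≫ q)).obj M)
    (M1.isQCoh_push _ hM) hn
  exact eH.symm.injective.subsingleton

end Groth.Agent.VanFib13
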