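import Mathlib
import Groth.Prelude.Def_Coh
import Groth.Agent.Lib.CohFound.ProperFinite
import Groth.Agent.Lib.CohFound.QcohAffine
import Groth.Agent.Lib.CohFound.AffMor
import Groth.Agent.Lib.ModM1.Push
import Groth.Agent.Lib.ModM1.Coh
import Groth.Agent.Lib.TopDimLib.Basic

/-!
# Cohomology of modules localised at a point of the base

For `X` proper over `Spec A` and a point `y`, cohomology classes in degrees above the dimension of the fibre
over `y` are killed by elements outside `y`.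
-/

set_option autoImplicit false
set_option linter.style.haveILetI false
set_option backward.isDefEq.respectTransparency false
set_option backward.isDefEq.respectTransparency.types false

universe u

open CategoryTheory CategoryTheory.Limits Opposite TopologicalSpace AlgebraicGeometry

noncomputable section

namespace Groth.Agent.VanFib13

open CohFound

variable {A : Type u} [CommRing A] {X : Scheme.{u}} (f₀ : X ⟶ Spec (CommRingCat.of A))
  (y : Spec (CommRingCat.of A))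

/-- The function on `X` given by `a : A`. -/
abbrev gl (a : A) : Γ(X, ⊤) := Coh.toGlobal f₀ a

/-- Every class is killed by an element outside `y`. -/
def Tors (M : X.Modules) (n : ℕ) : Prop :=
  ∀ ξ : Hc ((abF X).obj M) n ⊤, ∃ a : A, a ∉ y.asIdeal ∧ gMul M (gl f₀ a) n ⊤ ξ = 0

/-- All sections over opens missing `Z` vanish. -/
def SuppIn (G : X.Modules) (Z : Set X) : Prop :=
  ∀ W : X.Opens, Disjoint (W : Set X) Z → ∀ s : Γ(G, W), s = 0

variable {f₀ y}

theorem Tors.of_surj {M N : X.Modules} {n m : ℕ}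
    {f : Hc ((abF X).obj M) m ⊤ →+ Hc ((abF X).obj N) n ⊤} (hf : Equivariant f)
    (hs : Function.Surjective f) (h : Tors f₀ y M m) : Tors f₀ y N n := fun η => by
  obtain ⟨ξ, rfl⟩ := hs η
  obtain ⟨a, ha, h0⟩ := h ξ
  exact ⟨a, ha, by rw [← hf, h0, map_zero]⟩

theorem Tors.of_exact {M N P : X.Modules} {k m n : ℕ}
    {f : Hc ((abF X).obj M) k ⊤ →+ Hc ((abF X).obj N) m ⊤}
    {g : Hc ((abF X).obj N) m ⊤ →+ Hc ((abF X).obj P) n ⊤}
    (hf : Equivariant f) (hg : Equivariant g) (hex : ∀ x, g x = 0 → ∃ z, f z = x)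
    (h₁ : Tors f₀ y M k) (h₃ : Tors f₀ y P n) : Tors f₀ y N m := fun ξ => by
  obtain ⟨a, ha, h0⟩ := h₃ (g ξ)
  obtain ⟨η, hη⟩ := hex (gMul N (gl f₀ a) m ⊤ ξ) (by rw [hg, h0])
  obtain ⟨b, hb, h0'⟩ := h₁ η
  refine ⟨b * a, fun h => (y.isPrime.mem_or_mem h).elim hb ha, ?_⟩
  rw [show gl f₀ (b * a) = gl f₀ b * gl f₀ a from map_mul _ _ _, gMul_mul, ← hη, ← hf, h0', map_zero]

theorem Tors.X₂ {S : ShortComplex X.Modules} (hS : S.ShortExact) {n : ℕ}
    (h₁ : Tors f₀ y S.X₁ n) (h₃ : Tors f₀ y S.X₃ n) : Tors f₀ y S.X₂ n :=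
  Tors.of_exact (equivariant_mp S.f n ⊤) (equivariant_mp S.g n ⊤)
    (fun x hx => exact₂ (shortExact_abF hS) n ⊤ x hx) h₁ h₃

theorem Tors.X₁ {S : ShortComplex X.Modules} (hS : S.ShortExact) {n : ℕ}
    (h₂ : Tors f₀ y S.X₂ (n + 1)) (h₃ : Tors f₀ y S.X₃ n) : Tors f₀ y S.X₁ (n + 1) :=
  Tors.of_exact (equivariant_delta (shortExact_abF hS) n ⊤) (equivariant_mp S.f (n + 1) ⊤)
    (fun x hx => exact₁ (shortExact_abF hS) n ⊤ x hx) h₃ h₂

theorem tors_of_subsingleton {M : X.Modules} {n : ℕ} (h : Subsingleton (Hc ((abF X).obj M) n ⊤)) :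
    Tors f₀ y M n := fun _ => ⟨1, fun h1 => y.isPrime.ne_top ((Ideal.eq_top_iff_one _).2 h1),
  Subsingleton.elim _ _⟩

theorem gOpen_gl (a : A) :
    gOpen (gl f₀ a) = f₀ ⁻¹ᵁ (PrimeSpectrum.basicOpen a : (Spec (CommRingCat.of A)).Opens) := by
  change X.basicOpen (f₀.appTop ((Scheme.ΓSpecIso (CommRingCat.of A)).inv a)) = _
  rw [← Scheme.preimage_basicOpen_top]
  congr 1
  exact basicOpen_eq_of_affine' _ |>.trans (by simp)

theorem rs_zero_of_suppIn {M : X.Modules} {Z : Set X} (hM : SuppIn M Z) {U : X.Opens}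
    (hU : Disjoint (U : Set X) Z) (n : ℕ) (x : Hc ((abF X).obj M) n U) : x = 0 := by
  have hb : Function.Bijective (mp (0 : (abF X).obj M ⟶ (abF X).obj M) n U) :=
    mp_bijective_of_bijective_app _ U (fun V hV => by
      haveI : Subsingleton (((abF X).obj M).obj.obj (op V)) :=
        ⟨fun s t => (hM V (hU.mono_left hV) s).trans (hM V (hU.mono_left hV) t).symm⟩
      exact ⟨Function.injective_of_subsingleton _, fun s => ⟨s, Subsingleton.elim _ _⟩⟩) n
  exact hb.1 ((mp_zero _ _ n U x).trans (mp_zero _ _ n U 0).symm)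

/-- A module supported away from the fibre. -/
theorem tors_of_disjoint [IsProper f₀] (M : X.Modules) (hq : Coh.IsQCoh M) {Z : Set X}
    (hZ : IsClosed Z) (hM : SuppIn M Z) (hy : Disjoint Z (f₀ ⁻¹' {y})) (n : ℕ) : Tors f₀ y M n := by
  haveI : M.IsQuasicoherent := hq
  haveI : CompactSpace X := QuasiCompact.compactSpace_of_compactSpace f₀
  haveI : X.IsSeparated := ⟨by rw [← terminal.comp_from f₀]; infer_instance⟩
  obtain ⟨J, hJ⟩ := (PrimeSpectrum.isClosed_iff_zeroLocus_ideal (R := A) _).1 (f₀.isClosedMap Z hZ)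
  have hyJ : ¬ J ≤ y.asIdeal := fun h => by
    have : y ∈ f₀ '' Z := by rw [hJ]; exact h
    obtain ⟨z, hz, hzy⟩ := this
    exact Set.disjoint_left.1 hy hz hzy
  obtain ⟨a, haJ, hay⟩ := SetLike.not_le_iff_exists.1 hyJ
  have hdis : Disjoint ((⊤ ⊓ gOpen (gl f₀ a) : X.Opens) : Set X) Z := by
    rw [Set.disjoint_left]
    rintro x ⟨-, hx⟩ hxZ
    rw [gOpen_gl] at hx
    have : f₀ x ∈ PrimeSpectrum.zeroLocus (J : Set A) := hJ ▸ ⟨x, hxZ, rfl⟩
    exact hx (this haJ)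
  letI := gModule M n (⊤ : X.Opens)
  letI := gModule M n ((⊤ : X.Opens) ⊓ gOpen (gl f₀ a))
  obtain ⟨L, hL, hloc⟩ := isLocalizedModule_rs M (gl f₀ a) (U := (⊤ : X.Opens)) isCompact_univ n
  intro ξ
  have h0 : L ξ = L 0 := by
    rw [hL, hL, map_zero]
    exact rs_zero_of_suppIn hM hdis n _
  obtain ⟨⟨_, k, rfl⟩, hk⟩ := hloc.exists_of_eq h0
  refine ⟨a ^ k, fun h => hay (y.isPrime.mem_of_pow_mem k h), ?_⟩
  rw [show gl f₀ (a ^ k) = gl f₀ a ^ k from map_pow _ _ _]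
  exact hk.trans (smul_zero _)

/-- `j_* j^*`. -/
abbrev PJ (U : X.Opens) (G : X.Modules) : X.Modules :=
  (Scheme.Modules.pushforward U.ι).obj (G.restrict U.ι)

/-- The unit `G ⟶ j_* j^* G`. -/
abbrev θ (U : X.Opens) (G : X.Modules) : G ⟶ PJ U G :=
  (Scheme.Modules.restrictAdjunction U.ι).unit.app G

theorem θ_app (U : X.Opens) (G : X.Modules) (W : X.Opens) (s : Γ(G, W)) :
    (θ U G).app W s = M1.mres G (U.ι.image_preimage_le W) s := rfl

theorem mres_eq_zero_iff_of_le (G : X.Modules) {V W : X.Opens} (h : V ≤ W) (h' : W ≤ V) (s : Γ(G, W)) :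
    M1.mres G h s = 0 ↔ s = 0 := by
  refine ⟨fun e => ?_, fun e => by rw [e, map_zero]⟩
  rw [← M1.mres_id G (le_refl W) s, ← M1.mres_mres G h h', e, map_zero]

theorem image_preimage (U W : X.Opens) : U.ι ''ᵁ (U.ι ⁻¹ᵁ W) = W ⊓ U := by
  rw [Scheme.Hom.image_preimage_eq_opensRange_inf, Scheme.Opens.opensRange_ι, inf_comm]

theorem suppIn_PJ (U : X.Opens) (G : X.Modules) {Z Z' : Set X} (h : SuppIn G Z)
    (hZ : Z ∩ U ⊆ Z') : SuppIn (PJ U G) Z' := by
  intro W hW s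
  refine h (U.ι ''ᵁ (U.ι ⁻¹ᵁ W)) ?_ s
  rw [image_preimage, Set.disjoint_left]
  rintro x ⟨hxW, hxU⟩ hxZ
  exact Set.disjoint_left.1 hW hxW (hZ ⟨hxZ, hxU⟩)

theorem suppIn_kernel_θ (U : X.Opens) (G : X.Modules) {Z : Set X} (hZ : IsClosed Z) (h : SuppIn G Z) :
    SuppIn (kernel (θ U G)) (Z \ U) := by
  intro W hW s
  apply M1.app_injective (kernel.ι (θ U G)) W
  rw [map_zero]
  let t : Γ(G, W) := (kernel.ι (θ U G)).app W s
  have ht : (θ U G).app W t = 0 :=
    congrArg (fun φ : kernel (θ U G) ⟶ PJ U G => φ.app W s) (kernel.condition _)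
  rw [θ_app] at ht
  have hU : M1.mres G (inf_le_left : W ⊓ U ≤ W) t = 0 := by
    rw [← M1.mres_mres G (U.ι.image_preimage_le W) (image_preimage U W).ge, ht, map_zero]
  refine TopCat.Sheaf.eq_of_locally_eq' ((abF X).obj G)
    (fun V : {V : X.Opens // ∃ h : V ≤ W, M1.mres G h t = 0} => V.1) W (fun V => homOfLE V.2.choose) ?_ t 0 ?_
  · intro x hx
    by_cases hxU : x ∈ U
    · exact Opens.mem_iSup.2 ⟨⟨W ⊓ U, inf_le_left, hU⟩, hx, hxU⟩
    · have hxZ : x ∉ Z := fun hz => Set.disjoint_left.1 hW hx ⟨hz, hxU⟩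
      refine Opens.mem_iSup.2 ⟨⟨W ⊓ ⟨Zᶜ, hZ.isOpen_compl⟩, inf_le_left, ?_⟩, hx, hxZ⟩
      exact h _ (Set.disjoint_left.2 fun z hz hzZ => (show z ∈ (W : Set X) ∧ z ∉ Z from hz).2 hzZ) _
  · intro V
    rw [map_zero]
    exact V.2.choose_spec

theorem suppIn_cokernel {M N : X.Modules} (φ : M ⟶ N) (Z : Set X)
    (h : ∀ (W : X.Opens) (t : Γ(N, W)) (x : X), x ∈ W → x ∉ Z →
      ∃ (V : X.Opens) (hV : V ≤ W), x ∈ V ∧ ∃ m, φ.app V m = M1.mres N hV t) :
    SuppIn (cokernel φ) Z := by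
  intro W hW s
  haveI : Epi ((abF X).map (cokernel.π φ)) := inferInstance
  refine TopCat.Sheaf.eq_of_locally_eq' ((abF X).obj (cokernel φ))
    (fun V : {V : X.Opens // ∃ h : V ≤ W, M1.mres (cokernel φ) h s = 0} => V.1) W (fun V => homOfLE V.2.choose)
    ?_ s 0 ?_
  · intro x hx
    obtain ⟨V, hVW, hxV, t, ht⟩ := locally_lift_of_epi ((abF X).map (cokernel.π φ)) W s hx
    obtain ⟨V', hV', hxV', m, hm⟩ := h V t x hxV (Set.disjoint_left.1 hW hx)
    refine Opens.mem_iSup.2 ⟨⟨V', hV'.trans hVW, ?_⟩, hxV'⟩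
    rw [← M1.mres_mres _ hVW hV']
    change M1.mres _ hV' (((abF X).obj (cokernel φ)).obj.map (homOfLE hVW).op s) = 0
    rw [← ht]
    refine (M1.app_mres (cokernel.π φ) hV' t).symm.trans ?_
    rw [← hm]
    exact congrArg (fun ψ : M ⟶ cokernel φ => ψ.app V' m) (cokernel.condition φ)
  · intro V
    rw [map_zero]
    exact V.2.choose_spec

theorem suppIn_image_θ (U : X.Opens) (G : X.Modules) {Z Z' : Set X} (h : SuppIn G Z)
    (hZ : Z ∩ U ⊆ Z') : SuppIn (Abelian.image (θ U G)) Z' := by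
  intro W hW s
  apply M1.app_injective (Abelian.image.ι (θ U G)) W
  rw [map_zero]
  exact suppIn_PJ U G h hZ W hW _

theorem suppIn_cokernel_θ (U : X.Opens) (G : X.Modules) {Z : Set X} (hZ : IsClosed Z) (h : SuppIn G Z) :
    SuppIn (cokernel (θ U G)) (Z \ U) := by
  refine suppIn_cokernel (θ U G) _ fun W t x hxW hx => ?_
  by_cases hxU : x ∈ U
  · refine ⟨W ⊓ U, inf_le_left, ⟨hxW, hxU⟩, M1.mres G (image_preimage U W).ge (t : Γ(G, U.ι ''ᵁ (U.ι ⁻¹ᵁ W))), ?_⟩
    rw [θ_app]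
    exact M1.mres_mres G (image_preimage U W).ge (U.ι.image_preimage_le (W ⊓ U)) t
  · have hxZ : x ∉ Z := fun hz => hx ⟨hz, hxU⟩
    refine ⟨W ⊓ ⟨Zᶜ, hZ.isOpen_compl⟩, inf_le_left, ⟨hxW, hxZ⟩, 0, ?_⟩
    rw [map_zero]
    refine ((suppIn_PJ U G h (Set.inter_subset_left)) _ ?_ _).symm
    exact Set.disjoint_left.2 fun z hz hzZ => (show z ∈ (W : Set X) ∧ z ∉ Z from hz).2 hzZ

theorem isQCoh_PJ [IsNoetherian X] (U : X.Opens) {G : X.Modules} (hG : Coh.IsQCoh G) : Coh.IsQCoh (PJ U G) :=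
  M1.isQCoh_push U.ι (M1.isQCoh_restrict hG U.ι)

theorem isQCoh_image [IsNoetherian X] (U : X.Opens) {G : X.Modules} (hG : Coh.IsQCoh G) :
    Coh.IsQCoh (Abelian.image (θ U G)) :=
  M1.isQCoh_kernel (isQCoh_PJ U hG) (M1.isQCoh_cokernel hG (isQCoh_PJ U hG) _) _

theorem shortExact₁ (U : X.Opens) (G : X.Modules) :
    (ShortComplex.mk (kernel.ι (θ U G)) (Abelian.factorThruImage (θ U G))
      (by rw [← cancel_mono (Abelian.image.ι (θ U G)), Category.assoc, Abelian.image.fac, zero_comp,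
        kernel.condition])).ShortExact where
  exact := by
    let S₂ : ShortComplex X.Modules := ShortComplex.mk (kernel.ι (θ U G)) (θ U G) (kernel.condition _)
    let α : ShortComplex.mk (kernel.ι (θ U G)) (Abelian.factorThruImage (θ U G))
        (by rw [← cancel_mono (Abelian.image.ι (θ U G)), Category.assoc, Abelian.image.fac, zero_comp,
          kernel.condition]) ⟶ S₂ :=
      ShortComplex.homMk (𝟙 _) (𝟙 _) (Abelian.image.ι (θ U G)) (by simp [S₂]) (by simp [S₂])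
    haveI : Epi α.τ₁ := inferInstanceAs (Epi (𝟙 _))
    haveI : IsIso α.τ₂ := inferInstanceAs (IsIso (𝟙 _))
    haveI : Mono α.τ₃ := inferInstanceAs (Mono (Abelian.image.ι (θ U G)))
    exact (ShortComplex.exact_iff_of_epi_of_isIso_of_mono α).2 (ShortComplex.exact_kernel _)

theorem shortExact₂ (U : X.Opens) (G : X.Modules) :
    (ShortComplex.mk (Abelian.image.ι (θ U G)) (cokernel.π (θ U G)) (kernel.condition _)).ShortExact where
  exact := ShortComplex.exact_kernel _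

theorem subsingleton_hc_PJ [X.IsSeparated] [IsNoetherian X] (U : X.Opens) (hU : IsAffineOpen U) {G : X.Modules}
    (hG : Coh.IsQCoh G) (n : ℕ) : Subsingleton (Hc ((abF X).obj (PJ U G)) (n + 1) ⊤) := by
  haveI : IsAffine U.toScheme := hU
  haveI : IsAffineHom U.ι := by
    haveI : IsAffineHom (U.ι ≫ terminal.from X) := inferInstance
    exact IsAffineHom.of_comp U.ι (terminal.from X)
  haveI : (G.restrict U.ι).IsQuasicoherent := M1.isQCoh_restrict hG U.ι
  obtain ⟨e⟩ := nonempty_hc_push_isAffineHom U.ι (G.restrict U.ι) (n + 1) (⊤ : X.Opens)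
  haveI := subsingleton_hc_isAffineOpen (G.restrict U.ι) (U := U.ι ⁻¹ᵁ (⊤ : X.Opens))
    (isAffineOpen_top U.toScheme) n
  exact e.injective.subsingleton

theorem lt_of_lt_of_lt_succ {a b : WithBot ℕ∞} {n : ℕ} (h : a < b) (h' : b < ((n + 1 : ℕ) : WithBot ℕ∞)) :
    a < (n : WithBot ℕ∞) := by
  refine lt_of_lt_of_le h ?_
  induction b using WithBot.recBotCoe with
  | bot => exact bot_le
  | coe b =>
    rw [← WithBot.coe_natCast, WithBot.coe_lt_coe] at h'
    rw [← WithBot.coe_natCast, WithBot.coe_le_coe]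
    induction b using ENat.recTopCoe with
    | top => exact absurd h' not_top_lt
    | coe b =>
      have : b < n + 1 := by exact_mod_cast h'
      exact_mod_cast Nat.lt_succ_iff.1 this

theorem dim_mono {T : Type u} [TopologicalSpace T] {S S' : Set T} (h : S ⊆ S') :
    topologicalKrullDim S ≤ topologicalKrullDim S' :=
  Topology.IsInducing.topologicalKrullDim_le (f := Set.inclusion h) (Topology.IsEmbedding.inclusion h).isInducing

/-- Devissage on supports over the closure of `y`. -/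
theorem tors_of_suppIn [IsProper f₀] [IsNoetherian X] [X.IsSeparated] :
    ∀ (Z : Closeds X), (∀ x ∈ (Z : Set X), y ⤳ f₀ x) →
    ∀ (G : X.Modules), Coh.IsQCoh G → SuppIn G Z →
    ∀ n : ℕ, topologicalKrullDim ↥((Z : Set X) ∩ f₀ ⁻¹' {y}) < (n : WithBot ℕ∞) → Tors f₀ y G n := by
  intro Z
  induction Z using WellFoundedLT.induction with
  | _ Z ih =>
  intro hZy G hq hG n hn
  by_cases hfib : Disjoint (Z : Set X) (f₀ ⁻¹' {y})
  · exact tors_of_disjoint G hq Z.isClosed hG hfib n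
  obtain ⟨x₀, hx₀Z, hx₀y⟩ := Set.not_disjoint_iff.1 hfib
  obtain ⟨m, rfl⟩ : ∃ m, n = m + 1 := by
    refine ⟨n - 1, ?_⟩
    rcases Nat.eq_zero_or_pos n with rfl | hp
    · haveI : Nonempty ↥((Z : Set X) ∩ f₀ ⁻¹' {y}) := ⟨⟨x₀, hx₀Z, hx₀y⟩⟩
      exact absurd hn (not_lt.2 TopDimLib.zero_le_dim)
    · omega
  by_cases hirr : IsIrreducible (Z : Set X)
  · obtain ⟨ζ, hζ⟩ := QuasiSober.sober hirr Z.isClosed
    have hfζ : f₀ ζ = y := by
      refine Inseparable.eq ?_
      refine inseparable_iff_specializes_and.2 ⟨?_, hZy ζ hζ.mem⟩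
      have := (hζ.specializes hx₀Z).map f₀.continuous
      rwa [show f₀ x₀ = y from hx₀y] at this
    obtain ⟨U, hU, hζU, -⟩ := exists_isAffineOpen_mem_and_subset (X := X) (x := ζ) (U := ⊤) trivial
    let Z' : Closeds X := ⟨(Z : Set X) \ U, Z.isClosed.sdiff U.isOpen⟩
    have hlt : Z' < Z := lt_of_le_of_ne (fun t ht => ht.1) fun e => by
      have : ζ ∈ (Z' : Set X) := by rw [e]; exact hζ.mem
      exact this.2 hζU
    let F := (Z : Set X) ∩ f₀ ⁻¹' {y}
    have hgen : IsGenericPoint (⟨ζ, hζ.mem, hfζ⟩ : F) (Set.univ : Set F) := by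
      rw [isGenericPoint_def, Set.eq_univ_iff_forall]
      intro t
      rw [closure_subtype, Set.image_singleton]
      exact specializes_iff_mem_closure.1 (hζ.specializes t.2.1)
    haveI : IrreducibleSpace F :=
      (irreducibleSpace_def F).2 hgen.isIrreducible
    let Y : Set F := Subtype.val ⁻¹' (Z' : Set X)
    have hY : Y ≠ Set.univ := fun e => by
      have : (⟨ζ, hζ.mem, hfζ⟩ : F) ∈ Y := e ▸ Set.mem_univ _
      exact this.2 hζU
    have hdim : topologicalKrullDim ↥((Z' : Set X) ∩ f₀ ⁻¹' {y}) < topologicalKrullDim F := by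
      refine lt_of_le_of_lt ?_ (TopDimLib.dim_lt_of_closed_ssubset (fun h => ?_) Y
        (Z'.isClosed.preimage continuous_subtype_val) hY)
      · refine Topology.IsInducing.topologicalKrullDim_le
          (f := fun a : ↥((Z' : Set X) ∩ f₀ ⁻¹' {y}) => (⟨⟨a.1, a.2.1.1, a.2.2⟩, a.2.1⟩ : Y)) ?_
        exact Topology.IsInducing.of_comp (by fun_prop)
          (continuous_subtype_val.comp continuous_subtype_val) Topology.IsInducing.subtypeVal
      · exact absurd (h ▸ hn) not_top_lt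
    have hd' : topologicalKrullDim ↥((Z' : Set X) ∩ f₀ ⁻¹' {y}) < (m : WithBot ℕ∞) :=
      lt_of_lt_of_lt_succ hdim hn
    have hZy' : ∀ x ∈ (Z' : Set X), y ⤳ f₀ x := fun x hx => hZy x hx.1
    have hK : Tors f₀ y (kernel (θ U G)) (m + 1) :=
      ih Z' hlt hZy' _ (M1.isQCoh_kernel hq (isQCoh_PJ U hq) _) (suppIn_kernel_θ U G Z.isClosed hG) _
        (lt_of_lt_of_le hd' (by exact_mod_cast Nat.le_succ m))
    have hC : Tors f₀ y (cokernel (θ U G)) m :=
      ih Z' hlt hZy' _ (M1.isQCoh_cokernel hq (isQCoh_PJ U hq) _) (suppIn_cokernel_θ U G Z.isClosed hG) _ hd'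
    exact Tors.X₂ (shortExact₁ U G) hK
      (Tors.X₁ (shortExact₂ U G) (tors_of_subsingleton (subsingleton_hc_PJ U hU hq m)) hC)
  · have hne : (Z : Set X).Nonempty := ⟨x₀, hx₀Z⟩
    have hpre : ¬ IsPreirreducible (Z : Set X) := fun h => hirr ⟨hne, h⟩
    rw [isPreirreducible_iff_isClosed_union_isClosed] at hpre
    push Not at hpre
    obtain ⟨Z₁, Z₂, hZ₁, hZ₂, hsub, hn₁, hn₂⟩ := hpre
    let W₁ : Closeds X := ⟨(Z : Set X) ∩ Z₁, Z.isClosed.inter hZ₁⟩
    let W₂ : Closeds X := ⟨(Z : Set X) ∩ Z₂, Z.isClosed.inter hZ₂⟩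
    have hlt₁ : W₁ < Z := lt_of_le_of_ne (fun t ht => ht.1) fun e =>
      hn₁ fun t ht => ((show t ∈ (W₁ : Set X) by rw [e]; exact ht)).2
    have hlt₂ : W₂ < Z := lt_of_le_of_ne (fun t ht => ht.1) fun e =>
      hn₂ fun t ht => ((show t ∈ (W₂ : Set X) by rw [e]; exact ht)).2
    let U : X.Opens := ⟨Z₁ᶜ, hZ₁.isOpen_compl⟩
    have hK : Tors f₀ y (kernel (θ U G)) (m + 1) := by
      refine ih W₁ hlt₁ (fun x hx => hZy x hx.1) _ (M1.isQCoh_kernel hq (isQCoh_PJ U hq) _) ?_ _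
        (lt_of_le_of_lt (dim_mono (show ((W₁ : Set X) ∩ f₀ ⁻¹' {y}) ⊆ (Z : Set X) ∩ f₀ ⁻¹' {y} from
          fun t ht => ⟨ht.1.1, ht.2⟩)) hn)
      have h1 := suppIn_kernel_θ U G Z.isClosed hG
      rwa [show (Z : Set X) \ U = (W₁ : Set X) from Set.ext fun t =>
        ⟨fun h => ⟨h.1, not_not.1 h.2⟩, fun h => ⟨h.1, not_not.2 h.2⟩⟩] at h1
    have hI : Tors f₀ y (Abelian.image (θ U G)) (m + 1) :=
      ih W₂ hlt₂ (fun x hx => hZy x hx.1) _ (isQCoh_image U hq)
        (suppIn_image_θ U G hG fun t ht => ⟨ht.1, (hsub ht.1).resolve_left ht.2⟩) _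
        (lt_of_le_of_lt (dim_mono (show ((W₂ : Set X) ∩ f₀ ⁻¹' {y}) ⊆ (Z : Set X) ∩ f₀ ⁻¹' {y} from
          fun t ht => ⟨ht.1.1, ht.2⟩)) hn)
    exact Tors.X₂ (shortExact₁ U G) hK hI

/-- Multiplication by a global function, as a map of modules. -/
def mulHom (M : X.Modules) (r : Γ(X, ⊤)) : M ⟶ M :=
  Scheme.Modules.fullyFaithfulToPresheafOfModules.preimage
    (PresheafOfModules.homMk (M₁ := M.val) (M₂ := M.val) (gEnd M r).hom fun W (c : Γ(X, W.unop)) (s : Γ(M, W.unop)) => by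
      change M1.ores (le_top : W.unop ≤ ⊤) r • (c • s) = c • (M1.ores (le_top : W.unop ≤ ⊤) r • s)
      rw [smul_comm])

theorem abF_mulHom (M : X.Modules) (r : Γ(X, ⊤)) : (abF X).map (mulHom M r) = gEnd M r := by
  ext W s
  rfl

theorem suppIn_kernel_mulHom (M : X.Modules) (r : Γ(X, ⊤)) {Z : Set X} (hZ : IsClosed Z) (hM : SuppIn M Z) :
    SuppIn (kernel (mulHom M r)) (Z ∩ (gOpen r : Set X)ᶜ) := by
  intro W hW s
  apply M1.app_injective (kernel.ι (mulHom M r)) W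
  rw [map_zero]
  let t : Γ(M, W) := (kernel.ι (mulHom M r)).app W s
  have ht : (mulHom M r).app W t = 0 :=
    congrArg (fun φ : kernel (mulHom M r) ⟶ M => φ.app W s) (kernel.condition _)
  refine TopCat.Sheaf.eq_of_locally_eq' ((abF X).obj M)
    (fun V : {V : X.Opens // ∃ h : V ≤ W, M1.mres M h t = 0} => V.1) W (fun V => homOfLE V.2.choose) ?_ t 0 ?_
  · intro x hx
    by_cases hxZ : x ∈ Z
    · have hxr : x ∈ gOpen r := by_contra fun h => Set.disjoint_left.1 hW hx ⟨hxZ, h⟩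
      refine Opens.mem_iSup.2 ⟨⟨W ⊓ gOpen r, inf_le_left, (gEnd_app_bijective M r inf_le_right).1 ?_⟩, hx, hxr⟩
      rw [map_zero]
      refine (M1.app_mres (mulHom M r) (inf_le_left : W ⊓ gOpen r ≤ W) t).trans ?_
      rw [ht, map_zero]
    · refine Opens.mem_iSup.2 ⟨⟨W ⊓ ⟨Zᶜ, hZ.isOpen_compl⟩, inf_le_left, ?_⟩, hx, hxZ⟩
      exact hM _ (Set.disjoint_left.2 fun z hz hzZ => (show z ∈ (W : Set X) ∧ z ∉ Z from hz).2 hzZ) _
  · intro V
    rw [map_zero]
    exact V.2.choose_spec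

theorem suppIn_cokernel_mulHom (M : X.Modules) (r : Γ(X, ⊤)) {Z : Set X} (hZ : IsClosed Z) (hM : SuppIn M Z) :
    SuppIn (cokernel (mulHom M r)) (Z ∩ (gOpen r : Set X)ᶜ) := by
  refine suppIn_cokernel (mulHom M r) _ fun W t x hxW hx => ?_
  by_cases hxZ : x ∈ Z
  · have hxr : x ∈ gOpen r := by_contra fun h => hx ⟨hxZ, h⟩
    refine ⟨W ⊓ gOpen r, inf_le_left, ⟨hxW, hxr⟩, ?_⟩
    exact (gEnd_app_bijective M r inf_le_right).2 _
  · refine ⟨W ⊓ ⟨Zᶜ, hZ.isOpen_compl⟩, inf_le_left, ⟨hxW, hxZ⟩, 0, ?_⟩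
    rw [map_zero]
    exact (hM _ (Set.disjoint_left.2 fun z hz hzZ => (show z ∈ (W : Set X) ∧ z ∉ Z from hz).2 hzZ) _).symm

/-- Coherent modules: classes above the fibre dimension are killed outside `y`. -/
theorem tors_of_coh [IsNoetherianRing A] [IsProper f₀] [IsNoetherian X] [X.IsSeparated] (d : ℕ)
    (hd : topologicalKrullDim ↥(f₀ ⁻¹' {y} : Set X) ≤ (d : WithBot ℕ∞)) :
    ∀ (l : List A), (∀ g ∈ l, g ∈ y.asIdeal) → ∀ (Z : Closeds X),
      (∀ x ∈ (Z : Set X), (∀ g ∈ l, g ∈ (f₀ x).asIdeal) → y ⤳ f₀ x) →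
    ∀ (M : X.Modules), Coh.IsCoh M → SuppIn M Z → ∀ n : ℕ, d < n → Tors f₀ y M n := by
  intro l
  induction l with
  | nil =>
    intro _ Z hZ M hM hs n hn
    refine tors_of_suppIn Z (fun x hx => hZ x hx (fun g hg => absurd hg List.not_mem_nil)) M hM.1 hs n ?_
    refine lt_of_le_of_lt ((dim_mono Set.inter_subset_right).trans hd) ?_
    exact_mod_cast hn
  | cons g l ih =>
    intro hl Z hZ M hM hs n hn
    let r := gl f₀ g
    let Z' : Closeds X := ⟨(Z : Set X) ∩ (gOpen r : Set X)ᶜ, Z.isClosed.inter (gOpen r).isOpen.isClosed_compl⟩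
    have hZ' : ∀ x ∈ (Z' : Set X), (∀ g ∈ l, g ∈ (f₀ x).asIdeal) → y ⤳ f₀ x := fun x hx h => by
      refine hZ x hx.1 fun g' hg' => ?_
      rcases List.mem_cons.1 hg' with rfl | hg'
      · by_contra hne
        refine hx.2 ?_
        change x ∈ gOpen (gl f₀ g')
        rw [gOpen_gl]
        exact hne
      · exact h g' hg'
    have hl' : ∀ g ∈ l, g ∈ y.asIdeal := fun g' hg' => hl g' (List.mem_cons_of_mem _ hg')
    let μ := mulHom M r
    have hK : Coh.IsCoh (kernel μ) := M1.isCoh_kernel hM hM.1 μ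
    have hC : Coh.IsCoh (cokernel μ) := M1.isCoh_cokernel hM.1 hM μ
    have tK : Tors f₀ y (kernel μ) (n + 1) :=
      ih hl' Z' hZ' _ hK (suppIn_kernel_mulHom M r Z.isClosed hs) _ (by omega)
    have tC : Tors f₀ y (cokernel μ) n :=
      ih hl' Z' hZ' _ hC (suppIn_cokernel_mulHom M r Z.isClosed hs) _ hn
    let H := Hc ((abF X).obj M) n (⊤ : X.Opens)
    have key : ∀ ξ : H, ∃ s : A, s ∉ y.asIdeal ∧ ∃ η : H, gMul M (gl f₀ s) n ⊤ ξ = gMul M r n ⊤ η := by
      intro ξ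
      let S₁ : ShortComplex X.Modules := ShortComplex.mk (kernel.ι μ) (Abelian.factorThruImage μ)
        (by rw [← cancel_mono (Abelian.image.ι μ), Category.assoc, Abelian.image.fac, zero_comp,
          kernel.condition])
      have h₁ : S₁.ShortExact :=
        { exact := by
            let α : S₁ ⟶ ShortComplex.mk (kernel.ι μ) μ (kernel.condition μ) :=
              ShortComplex.homMk (𝟙 _) (𝟙 _) (Abelian.image.ι μ) (by simp [S₁]) (by simp [S₁])
            haveI : Epi α.τ₁ := inferInstanceAs (Epi (𝟙 _))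
            haveI : IsIso α.τ₂ := inferInstanceAs (IsIso (𝟙 _))
            haveI : Mono α.τ₃ := inferInstanceAs (Mono (Abelian.image.ι μ))
            exact (ShortComplex.exact_iff_of_epi_of_isIso_of_mono α).2 (ShortComplex.exact_kernel _) }
      let S₂ : ShortComplex X.Modules := ShortComplex.mk (Abelian.image.ι μ) (cokernel.π μ) (kernel.condition _)
      have h₂ : S₂.ShortExact := { exact := ShortComplex.exact_kernel _ }
      obtain ⟨a, ha, ha0⟩ := tC (mp ((abF X).map (cokernel.π μ)) n ⊤ ξ)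
      obtain ⟨ι', hι⟩ := exact₂ (shortExact_abF h₂) n ⊤ (gMul M (gl f₀ a) n ⊤ ξ)
        ((equivariant_mp (cokernel.π μ) n ⊤ (gl f₀ a) ξ).trans ha0)
      obtain ⟨b, hb, hb0⟩ := tK (delta (shortExact_abF h₁) n ⊤ ι')
      obtain ⟨η, hη⟩ := exact₃ (shortExact_abF h₁) n ⊤ (gMul (Abelian.image μ) (gl f₀ b) n ⊤ ι')
        ((equivariant_delta (shortExact_abF h₁) n ⊤ (gl f₀ b) ι').trans hb0)
      refine ⟨b * a, fun h => (y.isPrime.mem_or_mem h).elim hb ha, η, ?_⟩
      rw [show gl f₀ (b * a) = gl f₀ b * gl f₀ a from map_mul _ _ _, gMul_mul, ← hι]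
      refine (equivariant_mp (Abelian.image.ι μ) n ⊤ (gl f₀ b) ι').symm.trans ?_
      change mp ((abF X).map (Abelian.image.ι μ)) n ⊤ _ = _
      rw [← hη]
      refine (mp_comp _ _ n ⊤ η).symm.trans ?_
      refine congrArg (fun φ => mp φ n ⊤ η) ?_
      change (abF X).map (Abelian.factorThruImage μ) ≫ (abF X).map (Abelian.image.ι μ) = gEnd M r
      rw [← Functor.map_comp, Abelian.image.fac, abF_mulHom]
    letI := hMod (Coh.toGlobal f₀) M n (⊤ : X.Opens)
    haveI : Module.Finite A H := hFin_proper f₀ M hM n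
    obtain ⟨t, ht⟩ := (Module.Finite.fg_top : (⊤ : Submodule A H).FG)
    choose s hsy η hη using key
    let s₀ := ∏ ξ ∈ t, s ξ
    have hs₀ : s₀ ∉ y.asIdeal := fun h => by
      obtain ⟨ξ, -, hξ⟩ := y.isPrime.prod_mem_iff.1 h
      exact hsy ξ hξ
    have hrange : LinearMap.range (algebraMap A (Module.End A H) s₀) ≤ y.asIdeal • (⊤ : Submodule A H) := by
      rw [LinearMap.range_eq_map, ← ht, Submodule.map_span_le]
      intro ξ hξ
      obtain ⟨c, hc⟩ := Finset.dvd_prod_of_mem s hξ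
      change s₀ • ξ ∈ _
      rw [show s₀ = c * s ξ from hc.trans (mul_comm _ _), mul_smul]
      have h1 : s ξ • ξ = g • η ξ := hη ξ
      rw [h1, ht]
      exact Submodule.smul_mem _ _ (Submodule.smul_mem_smul (hl g List.mem_cons_self) trivial)
    obtain ⟨P, hP, -, hcoef, hP0⟩ :=
      LinearMap.exists_monic_and_natDegree_eq_and_coeff_mem_pow_and_aeval_eq_zero A (algebraMap A (Module.End A H) s₀) y.asIdeal hrange
    intro ξ
    refine ⟨P.eval s₀, ?_, ?_⟩
    · intro hmem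
      rw [Polynomial.eval_eq_sum_range, Finset.sum_range_succ, hP.coeff_natDegree, one_mul] at hmem
      have hsum : ∑ i ∈ Finset.range P.natDegree, P.coeff i * s₀ ^ i ∈ y.asIdeal :=
        Ideal.sum_mem _ fun i hi => Ideal.mul_mem_right _ _
          (Ideal.pow_le_self (by have := Finset.mem_range.1 hi; omega) (hcoef i))
      exact hs₀ (y.isPrime.mem_of_pow_mem _ ((Ideal.add_mem_iff_right _ hsum).1 hmem))
    · rw [Polynomial.aeval_algebraMap_apply_eq_algebraMap_eval] at hP0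
      exact LinearMap.congr_fun hP0 ξ

/-- Classes above the fibre dimension are killed outside `y`. -/
theorem tors_above_fibre_dim [IsNoetherianRing A] [IsProper f₀] (d : ℕ)
    (hd : topologicalKrullDim ↥(f₀ ⁻¹' {y} : Set X) ≤ (d : WithBot ℕ∞))
    (M : X.Modules) (hM : Coh.IsCoh M) (n : ℕ) (hn : d < n) : Tors f₀ y M n := by
  haveI := isNoetherian_of_isProper f₀
  haveI : X.IsSeparated := ⟨by rw [← terminal.comp_from f₀]; infer_instance⟩
  obtain ⟨t, ht⟩ := (IsNoetherian.noetherian y.asIdeal : y.asIdeal.FG)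
  refine tors_of_coh d hd t.toList (fun g hg => ht ▸ Ideal.subset_span (Finset.mem_toList.1 hg)) ⊤
    (fun x _ hx => (PrimeSpectrum.le_iff_specializes y (f₀ x)).1 (show y.asIdeal ≤ (f₀ x).asIdeal from
      ht ▸ Ideal.span_le.2 fun g hg => hx g (Finset.mem_toList.2 hg)))
    M hM (fun W hW s => ?_) n hn
  have hW0 : W = ⊥ := by
    ext x
    simp only [Opens.coe_bot, Set.mem_empty_iff_false, iff_false]
    exact fun hx => Set.disjoint_left.1 hW hx trivial
  subst hW0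
  exact TopCat.Sheaf.eq_of_locally_eq' ((abF X).obj M) (fun i : PEmpty.{u+1} => (⊥ : X.Opens)) ⊥ (fun i => i.elim)
    bot_le s 0 (fun i => i.elim)

end Groth.Agent.VanFib13
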