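import Groth.Agent.Lib.ModM1.QCAlgGen
import Groth.Agent.Lib.VanFib13.Tors
import Groth.Agent.Lib.CohFound.Colim

/-!
# Cohomology classes come from finite type submodules
-/

set_option autoImplicit false
set_option linter.style.haveILetI false
set_option backward.isDefEq.respectTransparency false
set_option backward.isDefEq.respectTransparency.types false

universe u

open CategoryTheory CategoryTheory.Limits Opposite TopologicalSpace AlgebraicGeometry

noncomputable section

namespace Groth.Agent.VanFib13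

open CohFound M1

variable {X : Scheme.{u}} [CompactSpace X] [QuasiSeparatedSpace X] {M : X.Modules} (hM : Coh.IsQCoh M)

/-- Quasi-coherent submodules of finite type. -/
abbrev FSub (M : X.Modules) := {q : Sub M // Coh.IsQCoh q.P ∧ CohB1.IsFT q.P}

/-- Index: sections over affine opens. -/
abbrev Idx (M : X.Modules) := Σ U : X.affineOpens, Γ(M, U.1)

include hM in
theorem exists_upper {ι : Type*} (S : Finset ι) (p : ι → FSub M) :
    ∃ r : FSub M, ∀ i ∈ S, ∀ T s, (p i).1.mem T s → r.1.mem T s := by
  classical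
  induction S using Finset.induction with
  | empty =>
    obtain ⟨q, hq, hq'⟩ := Sub.exists_zero hM
    exact ⟨⟨q, hq, hq'⟩, fun i hi => absurd hi (Finset.notMem_empty i)⟩
  | insert a S ha ih =>
    obtain ⟨q, hq⟩ := ih
    obtain ⟨r, hr, hr', h₁, h₂⟩ := Sub.exists_sup hM (p a).2.1 (p a).2.2 q.2.1 q.2.2
    refine ⟨⟨r, hr, hr'⟩, fun i hi T s hs => ?_⟩
    rcases Finset.mem_insert.1 hi with rfl | hi
    · exact h₁ T s hs
    · exact h₂ T s (hq i hi T s hs)

include hM in
theorem exists_step (S : Finset (Idx M)) (ih : ∀ T, T ⊂ S → FSub M) :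
    ∃ r : FSub M, (∀ a ∈ S, r.1.mem a.1.1 a.2) ∧ ∀ T (hT : T ⊂ S) W s, (ih T hT).1.mem W s → r.1.mem W s := by
  classical
  choose q hq hq' hm using fun a : Idx M => Sub.exists_through_section hM a.1 a.2
  obtain ⟨r, hr⟩ := exists_upper hM (Finset.univ : Finset ({a // a ∈ S} ⊕ {T // T ∈ S.ssubsets}))
    (Sum.elim (fun a => ⟨q a.1, hq a.1, hq' a.1⟩) (fun T => ih T.1 (Finset.mem_ssubsets.1 T.2)))
  exact ⟨r, fun a ha => hr (Sum.inl ⟨a, ha⟩) (Finset.mem_univ _) _ _ (hm a),
    fun T hT W s hs => hr (Sum.inr ⟨T, Finset.mem_ssubsets.2 hT⟩) (Finset.mem_univ _) W s hs⟩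

/-- An increasing family of finite type submodules through prescribed sections. -/
def subOf (S : Finset (Idx M)) : FSub M :=
  Finset.strongInduction (fun T ih => (exists_step hM T ih).choose) S

theorem subOf_eq (S : Finset (Idx M)) :
    subOf hM S = (exists_step hM S (fun T _ => subOf hM T)).choose := by
  rw [subOf, Finset.strongInduction_eq]

theorem mem_subOf {S : Finset (Idx M)} {a : Idx M} (ha : a ∈ S) : (subOf hM S).1.mem a.1.1 a.2 := by
  rw [subOf_eq]
  exact (exists_step hM S _).choose_spec.1 a ha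

theorem subOf_mono {S T : Finset (Idx M)} (h : T ⊆ S) (W : X.Opens) (s : Γ(M, W))
    (hs : (subOf hM T).1.mem W s) : (subOf hM S).1.mem W s := by
  rcases eq_or_ssubset_of_subset h with rfl | h'
  · exact hs
  · rw [subOf_eq hM S]
    exact (exists_step hM S _).choose_spec.2 T h' W s hs

theorem exists_trans {S T : Finset (Idx M)} (h : T ⊆ S) :
    ∃ c : (subOf hM T).1.P ⟶ (subOf hM S).1.P, c ≫ (subOf hM S).1.i = (subOf hM T).1.i :=
  Sub.exists_lift _ _ fun W m => subOf_mono hM h W _ ⟨m, rfl⟩

/-- The diagram of finite type submodules. -/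
def subDiag : Finset (Idx M) ⥤ X.Modules where
  obj S := (subOf hM S).1.P
  map {T S} f := (exists_trans hM (leOfHom f)).choose
  map_id S := by
    rw [← cancel_mono (subOf hM S).1.i, (exists_trans hM (leOfHom (𝟙 S))).choose_spec, Category.id_comp]
  map_comp {R T S} f g := by
    rw [← cancel_mono (subOf hM S).1.i, (exists_trans hM (leOfHom (f ≫ g))).choose_spec, Category.assoc,
      (exists_trans hM (leOfHom g)).choose_spec, (exists_trans hM (leOfHom f)).choose_spec]

theorem subDiag_map_i {T S : Finset (Idx M)} (f : T ⟶ S) :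
    (subDiag hM).map f ≫ (subOf hM S).1.i = (subOf hM T).1.i :=
  (exists_trans hM (leOfHom f)).choose_spec

/-- The inclusions. -/
def subCocone : Cocone (subDiag hM ⋙ abF X) where
  pt := (abF X).obj M
  ι := { app := fun S => (abF X).map (subOf hM S).1.i
         naturality := fun T S f => by
           change (abF X).map ((subDiag hM).map f) ≫ (abF X).map _ = (abF X).map _ ≫ 𝟙 _
           rw [← Functor.map_comp, subDiag_map_i, Category.comp_id] }

theorem isIso_desc : IsIso (colimit.desc _ (subCocone hM)) := by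
  classical
  let D := subDiag hM ⋙ abF X
  let φ := colimit.desc D (subCocone hM)
  haveI : Epi φ := by
    refine epi_of_locally_lift φ fun U s x hx => ?_
    obtain ⟨V, hV, hxV, hVU⟩ := exists_isAffineOpen_mem_and_subset (X := X) (x := x) (U := U) hx
    let a : Idx M := ⟨⟨V, hV⟩, M1.mres M hVU s⟩
    obtain ⟨t, ht⟩ := mem_subOf hM (S := {a}) (Finset.mem_singleton_self a)
    refine ⟨V, hVU, hxV, (colimit.ι D {a}).hom.app (op V) t, ?_⟩
    exact (congrArg (fun ψ : D.obj {a} ⟶ (abF X).obj M => ψ.hom.app (op V) t)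
      (colimit.ι_desc (subCocone hM) {a})).trans ht
  haveI : Mono φ := by
    refine mono_of_injective_app φ fun U => (injective_iff_map_eq_zero (φ.hom.app (op U)).hom).2 fun s hs => ?_
    refine TopCat.Sheaf.eq_of_locally_eq' (colimit D)
      (fun V : {V : X.Opens // ∃ h : V ≤ U, (colimit D).obj.map (homOfLE h).op s = 0} => V.1) U
      (fun V => homOfLE V.2.choose) ?_ s 0 ?_
    · intro x hx
      obtain ⟨S, V, hVU, hxV, t, ht⟩ := exists_local_rep (colimit.isColimit D) s hx
      refine Opens.mem_iSup.2 ⟨⟨V, hVU, ?_⟩, hxV⟩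
      have h1 : (subOf hM S).1.i.app V t = 0 := by
        refine (congrArg (fun ψ : D.obj S ⟶ (abF X).obj M => ψ.hom.app (op V) t)
          (colimit.ι_desc (subCocone hM) S)).symm.trans ?_
        change φ.hom.app (op V) ((colimit.ι D S).hom.app (op V) t) = 0
        erw [ht, NatTrans.naturality_apply φ.hom (homOfLE hVU).op s, hs, map_zero]
      have h2 : t = 0 := M1.app_injective (subOf hM S).1.i V (h1.trans (map_zero _).symm)
      refine ht.symm.trans ?_
      rw [h2]
      exact map_zero _
    · intro V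
      rw [map_zero]
      exact V.2.choose_spec
  exact isIso_of_mono_of_epi φ

include hM in
/-- Classes come from quasi-coherent submodules of finite type. -/
theorem exists_sub_hc (n : ℕ) (ξ : Hc ((abF X).obj M) n (⊤ : X.Opens)) :
    ∃ (q : Sub M) (η : Hc ((abF X).obj q.P) n (⊤ : X.Opens)),
      Coh.IsQCoh q.P ∧ CohB1.IsFT q.P ∧ mp ((abF X).map q.i) n ⊤ η = ξ := by
  haveI := isIso_desc hM
  let hc : IsColimit (subCocone hM) :=
    IsColimit.ofIsoColimit (colimit.isColimit _)
      (Cocone.ext (asIso (colimit.desc _ (subCocone hM))) (fun S => colimit.ι_desc _ S))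
  obtain ⟨S, η, hη⟩ := exists_rep_hc hc n (U := (⊤ : X.Opens)) isCompact_univ
    (by simpa using isQuasiSeparated_univ) ξ
  exact ⟨(subOf hM S).1, η, (subOf hM S).2.1, (subOf hM S).2.2, hη⟩

end Groth.Agent.VanFib13
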