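import Groth.Agent.Lib.VanFib13.Apply
import Groth.Agent.Lib.VanFib13.Top
import Groth.Agent.Lib.CohFound.RpushCoh

/-!
# The top direct image is of finite type
-/

set_option autoImplicit false
set_option linter.style.haveILetI false
set_option backward.isDefEq.respectTransparency false
set_option backward.isDefEq.respectTransparency.types false

universe u

open CategoryTheory CategoryTheory.Limits Opposite TopologicalSpace AlgebraicGeometry

namespace Groth.Agent.VanFib13

open CohFound

/-- The top direct image of a quasi-coherent module of finite type is quasi-coherent of finite type. -/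
theorem isCoh_rpush_top {X S : Scheme.{u}} (f : X ⟶ S) [IsProper f] (d : ℕ)
    (hd : ∀ y : S, topologicalKrullDim ↥(f.fiber y) ≤ (d : WithBot ℕ∞))
    [HasInjectiveResolutions X.Modules] {M : X.Modules} (hM : Coh.IsCoh M) :
    Coh.IsCoh ((Coh.Rpush f d).obj M) := by
  refine ⟨isQCoh_rpush f hM.1 d, M1.isFT_of_isIso (rpushPushSCIso f (injectiveResolution M) d).symm ?_⟩
  refine M1.isFT_of_fromSpec fun U hU => ?_
  let R := ModRes.ofInj (injectiveResolution M)
  have H : IsPullback (f ∣_ U ≫ hU.isoSpec.hom) (f ⁻¹ᵁ U).ι hU.fromSpec f :=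
    (isPullback_morphismRestrict f U).of_iso (Iso.refl _) hU.isoSpec (Iso.refl _) (Iso.refl _)
      (by simp) (by simp) (by simp [← IsAffineOpen.isoSpec_inv_ι]) (by simp)
  have : IsProper (f ∣_ U) := inferInstance
  let g : (f ⁻¹ᵁ U : Scheme.{u}) ⟶ Spec Γ(S, U) := f ∣_ U ≫ hU.isoSpec.hom
  have : IsProper g := inferInstance
  have : CompactSpace (f ⁻¹ᵁ U : X.Opens) := QuasiCompact.compactSpace_of_compactSpace g
  have : QuasiSeparatedSpace (f ⁻¹ᵁ U : X.Opens) := quasiSeparatedSpace_of_quasiSeparated g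
  have := M1.isQCoh_restrict hM.1 (f ⁻¹ᵁ U).ι
  refine M1.isFT_of_isIso
    (((R.pushSC f ((ComplexShape.up ℕ).prev d) d).mapHomologyIso
      (Scheme.Modules.restrictFunctor hU.fromSpec)).symm ≪≫
      ShortComplex.homologyMapIso (pushSCRestrictIso R H _ d)).symm ?_
  refine isFT_homology_pushSC _ g rfl (hFin_top g d (fun z => ?_) _ inferInstance (M1.isFT_restrict hM.2 _))
  let w : U.toScheme := hU.isoSpec.inv z
  have key : ∀ x : ↥(g ⁻¹' {z} : Set _), (f ⁻¹ᵁ U).ι x.1 ∈ (f ⁻¹' {U.ι w} : Set X) := fun x => by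
    have hx : hU.isoSpec.hom ((f ∣_ U) x.1) = z := x.2
    have h2 : (f ∣_ U) x.1 = w := by
      simp only [w, ← hx, ← Scheme.Hom.comp_apply, Iso.hom_inv_id, Category.assoc]
      simp
    change f ((f ⁻¹ᵁ U).ι x.1) = U.ι w
    rw [← h2, ← Scheme.Hom.comp_apply, ← Scheme.Hom.comp_apply, morphismRestrict_ι]
  refine le_trans ?_ ((dim_fiber f (U.ι w)).symm.trans_le (hd _))
  refine Topology.IsInducing.topologicalKrullDim_le
    (f := fun x => (⟨_, key x⟩ : ↥(f ⁻¹' {U.ι w} : Set X))) ?_
  exact Topology.IsInducing.of_comp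
    (((f ⁻¹ᵁ U).ι.continuous.comp continuous_subtype_val).subtype_mk _) continuous_subtype_val
    ((f ⁻¹ᵁ U).ι.isOpenEmbedding.isInducing.comp Topology.IsInducing.subtypeVal)

end Groth.Agent.VanFib13
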